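import Groth.Agent.CAlgMisc.McCoy
import Mathlib.RingTheory.Regular.RegularSequence
import Mathlib.RingTheory.Ideal.AssociatedPrime.Finiteness
import Mathlib.RingTheory.LocalRing.RingHom.Basic
import Mathlib.RingTheory.Noetherian.Basic
import Mathlib.RingTheory.Ideal.Quotient.Operations
import Mathlib.Data.Finset.Sort
import Mathlib.Tactic.LinearCombination

/-!
# The necessity half of the Buchsbaum–Eisenbud exactness criterion

An exact complex of finite free modules splits at every associated prime, so each matrix has the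
expected rank and its ideal of minors contains a nonzerodivisor; dividing by that element and
shifting gives regular sequences of the expected length.
-/

set_option autoImplicit false
universe u

open Matrix

namespace Groth.Agent.CAlgMisc.BEConverse

variable {R : Type u} [CommRing R]

/-- A complex of finite free modules, zero from `e` on and exact in positive degrees. -/
structure Cx (e : ℕ) (n : ℕ → ℕ) (M : ∀ q, Matrix (Fin (n q)) (Fin (n (q + 1))) R) : Prop where
  mul : ∀ q, M q * M (q + 1) = 0
  exact : ∀ q, q < e → ∀ v, M q *ᵥ v = 0 → ∃ w, v = M (q + 1) *ᵥ w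
  top : ∀ q, e ≤ q → M q = 0

/-- The alternating sums, counted from the top. -/
def rtop (e : ℕ) (n : ℕ → ℕ) : ℕ → ℕ
  | 0 => 0
  | k + 1 => n (e - k) - rtop e n k

/-- The expected rank of the `q`-th matrix. -/
def rk (e : ℕ) (n : ℕ → ℕ) (q : ℕ) : ℕ := rtop e n (e - q)

theorem rk_of_le {e q : ℕ} (n : ℕ → ℕ) (h : e ≤ q) : rk e n q = 0 := by
  rw [rk, Nat.sub_eq_zero_of_le h, rtop]

theorem rk_of_lt {e q : ℕ} (n : ℕ → ℕ) (h : q < e) :
    rk e n q = n (q + 1) - rk e n (q + 1) := by
  obtain ⟨k, hk⟩ : ∃ k, e - q = k + 1 := ⟨e - q - 1, by omega⟩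
  rw [rk, hk, rtop, rk, show e - (q + 1) = k by omega, show e - k = q + 1 by omega]

theorem rk_shift (e : ℕ) (n : ℕ → ℕ) (q : ℕ) :
    rk e (fun i => n (i + 1)) q = rk (e + 1) n (q + 1) := by
  have h : ∀ k, k ≤ e → rtop e (fun i => n (i + 1)) k = rtop (e + 1) n k := by
    intro k
    induction k with
    | zero => intro _; rfl
    | succ k ih =>
      intro hk
      rw [rtop, rtop, ih (by omega), show e - k + 1 = e + 1 - k by omega]
  rw [rk, rk, h _ (Nat.sub_le _ _), show e + 1 - (q + 1) = e - q by omega]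

/-- A split form of a matrix at `p`: a minor of size `r` outside `p` whose columns span all
columns up to a multiplier outside `p`. -/
def Split (p : Ideal R) {a b : ℕ} (M : Matrix (Fin a) (Fin b) R) (r : ℕ) : Prop :=
  ∃ (f : Fin r → Fin a) (g : Fin r → Fin b) (s : R) (Q : Matrix (Fin r) (Fin b) R),
    (M.submatrix f g).det ∉ p ∧ s ∉ p ∧ s • M = M.submatrix id g * Q

theorem split_step {p : Ideal R} [p.IsPrime] {z : R} (hp : ∀ a, a ∈ p ↔ a * z = 0) {a q b r' : ℕ}
    (M : Matrix (Fin a) (Fin q) R) (N : Matrix (Fin q) (Fin b) R) (hMN : M * N = 0)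
    (hex : ∀ v, M *ᵥ v = 0 → ∃ w, v = N *ᵥ w) (hN : Split p N r') :
    r' ≤ q ∧ Split p M (q - r') := by
  classical
  obtain ⟨f', g', s', Q', hd, hs', hQ'⟩ := hN
  have hf : Function.Injective f' := fun i j hij => by
    by_contra hne
    exact hd (by rw [Matrix.det_zero_of_row_eq hne (funext fun k => by simp [hij])]; exact zero_mem p)
  have hle : r' ≤ q := by simpa using Fintype.card_le_of_injective f' hf
  refine ⟨hle, ?_⟩
  let F : Finset (Fin q) := (Finset.univ.image f')ᶜ
  have hF : F.card = q - r' := by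
    simp [F, Finset.card_compl, Finset.card_image_of_injective _ hf]
  let c : Fin (q - r') → Fin q := fun i => F.orderEmbOfFin hF i
  have hbij : Function.Bijective (Sum.elim c f') := by
    rw [Fintype.bijective_iff_injective_and_card]
    refine ⟨Function.Injective.sumElim (F.orderEmbOfFin hF).injective hf (fun i j h => ?_), ?_⟩
    · have h' := F.orderEmbOfFin_mem hF i
      simp only [F, Finset.mem_compl, Finset.mem_image, Finset.mem_univ, true_and, not_exists] at h'
      exact h' j h.symm
    · simp; omega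
  let ε : Fin (q - r') ⊕ Fin r' ≃ Fin q := Equiv.ofBijective _ hbij
  have hsum : ∀ φ : Fin q → R, ∑ l, φ l = (∑ i, φ (c i)) + ∑ j, φ (f' j) := fun φ => by
    rw [← ε.sum_comp, Fintype.sum_sum_type]
    rfl
  let N' := N.submatrix f' g'
  -- the columns `f'` are combinations of the columns `c`
  have hcol : N'.det • M.submatrix id f' =
      -(M.submatrix id c * (N.submatrix c g' * N'.adjugate)) := by
    have h0 : M.submatrix id c * N.submatrix c g' + M.submatrix id f' * N' = 0 := by
      ext i j
      have h := congrFun (congrFun hMN i) (g' j)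
      rw [Matrix.mul_apply, hsum] at h
      simpa [Matrix.mul_apply, N'] using h
    have h1 := congrArg (· * N'.adjugate) h0
    simp only [Matrix.add_mul, Matrix.zero_mul, Matrix.mul_assoc, Matrix.mul_adjugate,
      Matrix.mul_smul, Matrix.mul_one] at h1
    exact eq_neg_of_add_eq_zero_right h1
  -- the columns `c` give an injective map modulo `p`
  have hinj : ∀ v : Fin (q - r') → R, (∀ i, (M.submatrix id c *ᵥ v) i ∈ p) → ∀ i, v i ∈ p := by
    intro v hv i
    let u : Fin q → R := fun l => Sum.elim v 0 (ε.symm l)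
    have huc : ∀ j, u (c j) = v j := fun j => by
      show Sum.elim v 0 (ε.symm (ε (Sum.inl j))) = v j
      rw [Equiv.symm_apply_apply]; rfl
    have huf : ∀ j, u (f' j) = 0 := fun j => by
      show Sum.elim v 0 (ε.symm (ε (Sum.inr j))) = 0
      rw [Equiv.symm_apply_apply]; rfl
    have hMu : M *ᵥ (z • u) = 0 := by
      funext k
      have h := (hp _).1 (hv k)
      rw [Matrix.mulVec_smul, Pi.smul_apply, smul_eq_mul, Pi.zero_apply]
      have : (M *ᵥ u) k = (M.submatrix id c *ᵥ v) k := by
        simp only [Matrix.mulVec, dotProduct, Matrix.submatrix_apply, id]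
        rw [hsum]
        simp [huc, huf]
      rw [this, mul_comm]
      exact h
    obtain ⟨w, hw⟩ := hex _ hMu
    have h1 : s' • (N *ᵥ w) = N.submatrix id g' *ᵥ (Q' *ᵥ w) := by
      rw [Matrix.mulVec_mulVec, ← hQ', Matrix.smul_mulVec]
    have h2 : N' *ᵥ (Q' *ᵥ w) = 0 := by
      funext j
      have h := congrFun h1 (f' j)
      rw [← hw] at h
      simp [huf] at h
      rw [← Matrix.mulVec_mulVec] at h
      exact h.symm
    have h3 : N'.det • (Q' *ᵥ w) = 0 := by
      have := congrArg (N'.adjugate *ᵥ ·) h2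
      simp only [Matrix.mulVec_zero] at this
      rw [Matrix.mulVec_mulVec, Matrix.adjugate_mul, Matrix.smul_mulVec, Matrix.one_mulVec] at this
      exact this
    have h4 : N'.det • (s' • (N *ᵥ w)) = 0 := by
      rw [h1, ← Matrix.mulVec_smul, h3, Matrix.mulVec_zero]
    have h5 : N'.det * s' * v i * z = 0 := by
      have h := congrFun h4 (c i)
      rw [← hw] at h
      simp only [Pi.smul_apply, smul_eq_mul, huc, Pi.zero_apply] at h
      linear_combination h
    rcases (‹p.IsPrime›).mem_or_mem ((hp _).2 h5) with h | h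
    · rcases (‹p.IsPrime›).mem_or_mem h with h | h
      · exact absurd h hd
      · exact absurd h hs'
    · exact h
  obtain ⟨f, hfdet⟩ : ∃ f : Fin (q - r') → Fin a, (M.submatrix f c).det ∉ p := by
    by_contra hcon
    simp only [not_exists, not_not] at hcon
    let π := Ideal.Quotient.mk p
    obtain ⟨v, hv, hMv⟩ := exists_ker_of_annihilated ((M.submatrix id c).map π)
      (a := (1 : R ⧸ p)) one_ne_zero fun f g => by
        rw [one_mul, show ((M.submatrix id c).map π).submatrix f g =
          ((M.submatrix id c).submatrix f g).map π from rfl, ← RingHom.mapMatrix_apply,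
          ← RingHom.map_det, Ideal.Quotient.eq_zero_iff_mem]
        by_cases hg : Function.Injective g
        · let σ := Equiv.ofBijective g (Finite.injective_iff_bijective.1 hg)
          rw [show ((M.submatrix id c).submatrix f g).det =
              (((M.submatrix (f ∘ σ.symm) c)).submatrix σ σ).det from by
            congr 1; ext i j; simp [σ], Matrix.det_submatrix_equiv_self]
          exact hcon _
        · obtain ⟨i, j, hij, hne⟩ : ∃ i j, g i = g j ∧ i ≠ j := by
            simpa [Function.Injective] using hg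
          rw [Matrix.det_zero_of_column_eq hne (fun k => by simp [hij])]
          exact zero_mem p
    choose v' hv' using fun i => Ideal.Quotient.mk_surjective (v i)
    apply hv
    funext i
    rw [Pi.zero_apply, ← hv' i, Ideal.Quotient.eq_zero_iff_mem]
    refine hinj v' (fun k => ?_) i
    rw [← Ideal.Quotient.eq_zero_iff_mem, RingHom.map_mulVec]
    have : (π ∘ v') = v := funext hv'
    rw [this]
    exact congrFun hMv k
  let Q : Matrix (Fin (q - r')) (Fin q) R := Matrix.of fun i l =>
    Sum.elim (fun i' => if i = i' then N'.det else 0)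
      (fun j => -(N.submatrix c g' * N'.adjugate) i j) (ε.symm l)
  refine ⟨f, c, N'.det, Q, hfdet, hd, ?_⟩
  ext k l
  obtain ⟨x, rfl⟩ := ε.surjective l
  rcases x with i | j
  · simp only [Matrix.smul_apply, Matrix.mul_apply, Matrix.submatrix_apply, Q, Matrix.of_apply,
      Equiv.symm_apply_apply, Sum.elim_inl, id, mul_ite, mul_zero, Finset.sum_ite_eq',
      Finset.mem_univ, if_true, smul_eq_mul]
    rw [mul_comm]
    rfl
  · have h := congrFun (congrFun hcol k) j
    simp only [Matrix.smul_apply, Matrix.submatrix_apply, id, Matrix.neg_apply] at h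
    rw [Matrix.smul_apply, show ε (Sum.inr j) = f' j from rfl, h, Matrix.mul_apply, Matrix.mul_apply,
      ← Finset.sum_neg_distrib]
    refine Finset.sum_congr rfl fun i _ => ?_
    rw [show Q i (f' j) = -(N.submatrix c g' * N'.adjugate) i j by
      show Sum.elim _ _ (ε.symm (ε (Sum.inr j))) = _
      rw [Equiv.symm_apply_apply]; rfl]
    simp

variable {e : ℕ} {n : ℕ → ℕ} {M : ∀ q, Matrix (Fin (n q)) (Fin (n (q + 1))) R}

theorem split_of_cx (h : Cx e n M) {p : Ideal R} [p.IsPrime] {z : R}
    (hp : ∀ a, a ∈ p ↔ a * z = 0) (q : ℕ) :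
    Split p (M q) (rk e n q) ∧ (q < e → rk e n (q + 1) ≤ n (q + 1)) := by
  induction hk : e - q generalizing q with
  | zero =>
    have hq : e ≤ q := by omega
    refine ⟨?_, fun h => absurd h (by omega)⟩
    rw [rk_of_le n hq]
    exact ⟨Fin.elim0, Fin.elim0, 1, 0,
      by simpa using (Ideal.ne_top_iff_one p).1 (Ideal.IsPrime.ne_top inferInstance),
      (Ideal.ne_top_iff_one p).1 (Ideal.IsPrime.ne_top inferInstance), by rw [h.top q hq]; simp⟩
  | succ k ih =>
    obtain ⟨hle, hs⟩ := split_step hp (M q) (M (q + 1)) (h.mul q) (h.exact q (by omega))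
      (ih (q + 1) (by omega)).1
    exact ⟨by rw [rk_of_lt n (by omega)]; exact hs, fun _ => hle⟩

theorem det_mul_eq_zero {k r : ℕ} (hrk : r < k) (X : Matrix (Fin k) (Fin r) R)
    (Y : Matrix (Fin r) (Fin k) R) : (X * Y).det = 0 := by
  let E : Matrix (Fin r) (Fin k) R := (1 : Matrix (Fin k) (Fin k) R).submatrix (Fin.castLE hrk.le) id
  have hE : E * Eᵀ = 1 := by
    ext i j
    simp [E, Matrix.mul_apply, Matrix.one_apply, Fin.castLE_inj]
  have h : X * Y = (X * E) * (Eᵀ * Y) := by
    rw [Matrix.mul_assoc, ← Matrix.mul_assoc E, hE, Matrix.one_mul]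
  rw [h, Matrix.det_mul, Matrix.det_eq_zero_of_column_eq_zero (⟨r, hrk⟩ : Fin k) (fun i => ?_),
    zero_mul]
  rw [Matrix.mul_apply]
  refine Finset.sum_eq_zero fun j _ => mul_eq_zero_of_right _ ?_
  simp only [E, Matrix.submatrix_apply, id]
  exact Matrix.one_apply_ne fun h => by
    have := congrArg Fin.val h
    simp at this
    omega

theorem mem_colon_bot {z a : R} : a ∈ (⊥ : Submodule R R).colon {z} ↔ a * z = 0 := by
  rw [Submodule.mem_colon_singleton, Submodule.mem_bot, smul_eq_mul]

theorem isSMulRegular_of_nzd {x : R} (hx : x ∈ nonZeroDivisors R) : IsSMulRegular R x := by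
  intro a b h
  exact sub_eq_zero.1 ((mem_nonZeroDivisors_iff_right.1 hx) (a - b) (by
    rw [sub_mul, sub_eq_zero, mul_comm a, mul_comm b]; exact h))

variable [IsNoetherianRing R] [Nontrivial R]

theorem exists_prime_ann : ∃ (p : Ideal R) (z : R), p.IsPrime ∧ ∀ a, a ∈ p ↔ a * z = 0 := by
  obtain ⟨P, hP, -⟩ := exists_le_isAssociatedPrime_of_isNoetherianRing R (1 : R) one_ne_zero
  obtain ⟨hprime, z, rfl⟩ := (isAssociatedPrime_iff.1 hP)
  exact ⟨_, z, hprime, fun a => mem_colon_bot⟩

theorem rk_le (h : Cx e n M) {q : ℕ} (hq : q < e) : rk e n (q + 1) ≤ n (q + 1) := by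
  obtain ⟨p, z, hp, hpz⟩ := exists_prime_ann (R := R)
  haveI := hp
  exact (split_of_cx h hpz q).2 hq

theorem matrixRank_eq (h : Cx e n M) (q : ℕ) : CAlgX.matrixRank (M q) = rk e n q := by
  refine IsGreatest.csSup_eq ⟨?_, fun k hk => ?_⟩
  · intro h0
    obtain ⟨p, z, hp, hpz⟩ := exists_prime_ann (R := R)
    haveI := hp
    obtain ⟨f, g, s, Q, hd, -⟩ := (split_of_cx h hpz q).1
    refine hd ?_
    have hz : ((M q).submatrix f g).det = 0 :=
      (Submodule.eq_bot_iff _).1 h0 _ (Ideal.subset_span ⟨(f, g), rfl⟩)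
    rw [hz]
    exact zero_mem p
  · by_contra hlt
    refine hk ?_
    rw [CAlgX.minorIdeal, Ideal.span_eq_bot]
    rintro _ ⟨⟨f, g⟩, rfl⟩
    by_contra hne
    obtain ⟨P, hP, hle⟩ := exists_le_isAssociatedPrime_of_isNoetherianRing R _ hne
    obtain ⟨hprime, z, rfl⟩ := (isAssociatedPrime_iff.1 hP)
    haveI := hprime
    obtain ⟨f₀, g₀, s, Q, -, hs, hQ⟩ :=
      (split_of_cx (z := z) h (fun a => mem_colon_bot) q).1
    have h1 : s • (M q).submatrix f g = (M q).submatrix f g₀ * Q.submatrix id g := by
      rw [show s • (M q).submatrix f g = (s • M q).submatrix f g from rfl, hQ,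
        Matrix.submatrix_mul _ _ f id g Function.bijective_id]
      rfl
    have h2 := congrArg Matrix.det h1
    rw [Matrix.det_smul, Fintype.card_fin, det_mul_eq_zero (not_le.1 hlt)] at h2
    exact hs (hprime.mem_of_pow_mem k (hle (mem_colon_bot.2 h2)))

theorem exists_nonZeroDivisor (h : Cx e n M) (q : ℕ) :
    ∃ x ∈ CAlgX.minorIdeal (M q) (rk e n q), x ∈ nonZeroDivisors R := by
  by_contra! hcon
  let I := CAlgX.minorIdeal (M q) (rk e n q)
  have hdis : Disjoint (I : Set R) (nonZeroDivisors R) := Set.disjoint_left.2 hcon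
  obtain ⟨P, hP, hIP⟩ : ∃ P ∈ associatedPrimes R R, I ≤ P :=
    (I.subset_union_prime_finite (associatedPrimes.finite ..) (f := id) 0 0 fun _ h _ _ ↦ h.1).1 <|
    biUnion_associatedPrimes_eq_compl_nonZeroDivisors R ▸ hdis.subset_compl_right
  obtain ⟨hprime, z, rfl⟩ := (isAssociatedPrime_iff.1 hP)
  haveI := hprime
  obtain ⟨f, g, s, Q, hd, -⟩ := (split_of_cx (z := z) h (fun a => mem_colon_bot) q).1
  exact hd (hIP (Ideal.subset_span ⟨(f, g), rfl⟩))

omit [IsNoetherianRing R] [Nontrivial R] in
theorem map_minorIdeal {S : Type u} [CommRing S] (φ : R →+* S) {a b : ℕ}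
    (A : Matrix (Fin a) (Fin b) R) (r : ℕ) :
    (CAlgX.minorIdeal A r).map φ = CAlgX.minorIdeal (A.map φ) r := by
  rw [CAlgX.minorIdeal, CAlgX.minorIdeal, Ideal.map_span, ← Set.range_comp]
  congr 2
  funext fg
  exact RingHom.map_det φ _

omit [IsNoetherianRing R] [Nontrivial R] in
theorem cx_quotient (h : Cx (e + 1) n M) {x : R} (hx : IsSMulRegular R x) :
    Cx e (fun i => n (i + 1))
      (fun q => (M (q + 1)).map (Ideal.Quotient.mk (Ideal.span {x}))) := by
  let π := Ideal.Quotient.mk (Ideal.span {x})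
  refine ⟨fun q => ?_, fun q hq v hv => ?_, fun q hq => ?_⟩
  · rw [← Matrix.map_mul, h.mul]
    exact Matrix.map_zero _ (map_zero _)
  · choose v' hv' using fun i => Ideal.Quotient.mk_surjective (v i)
    have hv'' : (π ∘ v') = v := funext hv'
    have h1 : ∀ i, ∃ y, (M (q + 1) *ᵥ v') i = x * y := fun i => by
      refine Ideal.mem_span_singleton.1 (Ideal.Quotient.eq_zero_iff_mem.1 ?_)
      rw [RingHom.map_mulVec, hv'']
      exact congrFun hv i
    choose y hy using h1
    have hy' : M (q + 1) *ᵥ v' = x • y := funext hy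
    have h2 : M q *ᵥ y = 0 := by
      funext i
      refine hx ?_
      show x • (M q *ᵥ y) i = x • (0 : R)
      rw [smul_zero, ← Pi.smul_apply, ← Matrix.mulVec_smul, ← hy', Matrix.mulVec_mulVec, h.mul,
        Matrix.zero_mulVec, Pi.zero_apply]
    obtain ⟨w, hw⟩ := h.exact q (by omega) y h2
    obtain ⟨u, hu⟩ := h.exact (q + 1) (by omega) (v' - x • w) (by
      rw [Matrix.mulVec_sub, Matrix.mulVec_smul, hy', hw, sub_self])
    refine ⟨π ∘ u, funext fun i => ?_⟩
    rw [← RingHom.map_mulVec, ← hv' i, ← hu, Pi.sub_apply, Pi.smul_apply, smul_eq_mul, map_sub,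
      map_mul, show π x = 0 from Ideal.Quotient.eq_zero_iff_mem.2 (Ideal.mem_span_singleton_self x),
      zero_mul, sub_zero]
  · rw [h.top (q + 1) (by omega)]
    exact Matrix.map_zero _ (map_zero _)

open RingTheory.Sequence in
theorem exists_regular : ∀ (q : ℕ) {R : Type u} [CommRing R] [IsLocalRing R] [IsNoetherianRing R]
    {e : ℕ} {n : ℕ → ℕ} {M : ∀ q, Matrix (Fin (n q)) (Fin (n (q + 1))) R}, Cx e n M → q < e →
    CAlgX.minorIdeal (M q) (rk e n q) = ⊤ ∨ ∃ rs : List R, rs.length = q + 1 ∧
      (∀ r ∈ rs, r ∈ CAlgX.minorIdeal (M q) (rk e n q)) ∧ IsRegular R rs := by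
  intro q
  induction q with
  | zero =>
    intro R _ _ _ e n M h hq
    refine or_iff_not_imp_left.2 fun hne => ?_
    obtain ⟨x, hxI, hx⟩ := exists_nonZeroDivisor h 0
    refine ⟨[x], rfl, by simpa using hxI, ?_⟩
    rw [isRegular_cons_iff]
    refine ⟨isSMulRegular_of_nzd hx, ?_⟩
    haveI : Nontrivial (QuotSMulTop x R) := by
      refine Submodule.Quotient.nontrivial_iff.2 fun htop => hne ?_
      rw [← Submodule.ideal_span_singleton_smul, smul_eq_mul, Ideal.mul_top] at htop
      exact top_le_iff.1 (htop ▸ (Ideal.span_singleton_le_iff_mem _).2 hxI)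
    exact IsRegular.nil R _
  | succ q ih =>
    intro R _ _ _ e n M h hq
    obtain ⟨e, rfl⟩ : ∃ e', e = e' + 1 := ⟨e - 1, by omega⟩
    refine or_iff_not_imp_left.2 fun hne => ?_
    obtain ⟨x, hxI, hx⟩ := exists_nonZeroDivisor h (q + 1)
    have hxreg : IsSMulRegular R x := isSMulRegular_of_nzd hx
    have hxle : Ideal.span {x} ≤ CAlgX.minorIdeal (M (q + 1)) (rk (e + 1) n (q + 1)) :=
      (Ideal.span_singleton_le_iff_mem _).2 hxI
    let π := Ideal.Quotient.mk (Ideal.span {x})
    haveI : Nontrivial (R ⧸ Ideal.span {x}) :=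
      Ideal.Quotient.nontrivial_iff.2 fun htop => hne (top_le_iff.1 (htop ▸ hxle))
    haveI : IsLocalRing (R ⧸ Ideal.span {x}) :=
      IsLocalRing.of_surjective' π Ideal.Quotient.mk_surjective
    have key := ih (cx_quotient h hxreg) (by omega)
    rw [rk_shift, ← map_minorIdeal] at key
    rcases key with htop | ⟨rs, hlen, hmem, hreg⟩
    · refine absurd ?_ hne
      have := congrArg (Ideal.comap π) htop
      rwa [Ideal.comap_map_of_surjective π Ideal.Quotient.mk_surjective, Ideal.comap_top,
        ← RingHom.ker_eq_comap_bot, Ideal.mk_ker, sup_eq_left.2 hxle] at this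
    · have : ∀ r : {r // r ∈ rs}, ∃ r' ∈ CAlgX.minorIdeal (M (q + 1)) (rk (e + 1) n (q + 1)),
          π r' = r.1 := fun r =>
        (Ideal.mem_map_iff_of_surjective π Ideal.Quotient.mk_surjective).1 (hmem r.1 r.2)
      choose φ hφ hφ' using this
      refine ⟨x :: rs.attach.map φ, by simp [hlen], ?_, ?_⟩
      · simp only [List.mem_cons, List.mem_map, forall_eq_or_imp]
        exact ⟨hxI, fun r ⟨a, _, ha⟩ => ha ▸ hφ a⟩
      · rw [isRegular_cons_iff']
        refine ⟨hxreg, ?_⟩
        have hmap : (rs.attach.map φ).map π = rs := by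
          rw [List.map_map, show π ∘ φ = Subtype.val from funext hφ']
          exact List.attach_map_subtype_val rs
        rw [hmap]
        have e' : (R ⧸ Ideal.span {x}) ≃ₗ[R] QuotSMulTop x R := Submodule.quotEquivOfEq _ _
          (by rw [← Submodule.ideal_span_singleton_smul, smul_eq_mul, Ideal.mul_top])
        let e'' : (R ⧸ Ideal.span {x}) ≃ₗ[R ⧸ Ideal.span {x}] QuotSMulTop x R := { e' with
          map_smul' := fun c m => by
            obtain ⟨c, rfl⟩ := Ideal.Quotient.mk_surjective c
            exact e'.map_smul c m }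
        exact (e''.isRegular_congr _).1 hreg

end Groth.Agent.CAlgMisc.BEConverse
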