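import Mathlib.RingTheory.LocalRing.Module
import Mathlib.RingTheory.Ideal.AssociatedPrime.Basic
import Mathlib.RingTheory.Localization.AtPrime.Basic
import Mathlib.LinearAlgebra.Dimension.Constructions

/-!
# Depth zero local rings: free submodules of finite free modules have free quotients
-/

set_option autoImplicit false
universe u v

namespace Groth.Agent.CAlgMisc.DepthZero

open TensorProduct IsLocalRing

variable {R : Type u} [CommRing R] [IsLocalRing R] {z : R}

theorem free_quotient (hz0 : z ≠ 0) (hz : ∀ x ∈ maximalIdeal R, x * z = 0)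
    {F : Type v} [AddCommGroup F] [Module R F] [Module.Free R F] [Module.Finite R F]
    (K : Submodule R F) [Module.Free R K] [Module.Finite R K] :
    Module.Free R (F ⧸ K) ∧
      Module.finrank R K + Module.finrank R (F ⧸ K) = Module.finrank R F := by
  have hinj : Function.Injective (K.subtype.lTensor (ResidueField R)) := by
    rw [injective_iff_map_eq_zero]
    intro a ha
    obtain ⟨y, rfl⟩ := TensorProduct.mk_surjective R K (ResidueField R) IsLocalRing.residue_surjective a
    rw [TensorProduct.mk_apply, LinearMap.lTensor_tmul] at ha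
    have hzy : z • (y : F) = 0 := by
      let b := Module.Free.chooseBasis R F
      refine b.repr.injective (Finsupp.ext fun i => ?_)
      have h1 := congrArg (TensorProduct.rid R (ResidueField R) ∘ (b.coord i).lTensor (ResidueField R)) ha
      simp only [Function.comp_apply, LinearMap.lTensor_tmul, map_zero, TensorProduct.rid_tmul,
        Algebra.smul_def, mul_one, Submodule.subtype_apply] at h1
      have h2 : b.coord i (y : F) ∈ maximalIdeal R := Ideal.Quotient.eq_zero_iff_mem.1 h1
      simpa [mul_comm z] using hz _ h2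
    have hzy' : z • y = 0 := Subtype.ext hzy
    let c := Module.Free.chooseBasis R K
    rw [TensorProduct.mk_apply, ← c.sum_repr y, TensorProduct.tmul_sum]
    refine Finset.sum_eq_zero fun i _ => ?_
    have hci : z * c.repr y i = 0 := by simpa using DFunLike.congr_fun (congrArg c.repr hzy') i
    have hm : c.repr y i ∈ maximalIdeal R := fun hu => hz0 (by simpa using (hu.mul_left_eq_zero).1 hci)
    rw [← TensorProduct.smul_tmul, Algebra.smul_def, mul_one]
    rw [show algebraMap R (ResidueField R) (c.repr y i) = 0 from Ideal.Quotient.eq_zero_iff_mem.2 hm,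
      TensorProduct.zero_tmul]
  have hfree : Module.Free R (F ⧸ K) := Module.free_of_lTensor_residueField_injective K.subtype K.mkQ
    (Submodule.mkQ_surjective _) (LinearMap.exact_subtype_mkQ K) hinj
  refine ⟨hfree, ?_⟩
  obtain ⟨s, hs⟩ := Module.projective_lifting_property K.mkQ LinearMap.id (Submodule.mkQ_surjective _)
  have hs' : ∀ q, K.mkQ (s q) = q := LinearMap.congr_fun hs
  let φ : (K × (F ⧸ K)) →ₗ[R] F := LinearMap.coprod K.subtype s
  have hφ : Function.Bijective φ := by
    refine ⟨(injective_iff_map_eq_zero φ).2 fun p hp => ?_, fun x => ?_⟩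
    · obtain ⟨k, q⟩ := p
      simp only [φ, LinearMap.coprod_apply, Submodule.subtype_apply] at hp
      have hq := congrArg K.mkQ hp
      rw [map_add, hs', map_zero, Submodule.mkQ_apply, (Submodule.Quotient.mk_eq_zero K).2 k.2, zero_add] at hq
      subst hq
      rw [map_zero, add_zero] at hp
      exact Prod.ext (Subtype.ext hp) rfl
    · have hx : x - s (K.mkQ x) ∈ K := by
        rw [← Submodule.Quotient.mk_eq_zero, ← Submodule.mkQ_apply, map_sub, hs', sub_self]
      exact ⟨(⟨_, hx⟩, K.mkQ x), by simp [φ]⟩
  rw [← Module.finrank_prod, (LinearEquiv.ofBijective φ hφ).finrank_eq]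

theorem eq_top_of_free (hz0 : z ≠ 0) (hz : ∀ x ∈ maximalIdeal R, x * z = 0)
    (J : Ideal R) [Module.Free R J] (hJ : J ≠ ⊥) : J = ⊤ := by
  haveI : Nontrivial J := Submodule.nontrivial_iff_ne_bot.2 hJ
  let c := Module.Free.chooseBasis R J
  obtain ⟨i⟩ := c.index_nonempty
  refine J.eq_top_of_isUnit_mem (c i).2 ?_
  by_contra hu
  have h0 : z • c i = 0 := Subtype.ext (by
    rw [Submodule.coe_smul, smul_eq_mul, mul_comm]; exact hz _ hu)
  simpa [hz0] using DFunLike.congr_fun (congrArg c.repr h0) i

theorem exists_socle {A : Type u} [CommRing A] (P : Ideal A) [P.IsPrime]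
    (hP : P ∈ associatedPrimes A A) [IsNoetherianRing A] :
    ∃ z : Localization.AtPrime P, z ≠ 0 ∧ ∀ x ∈ maximalIdeal (Localization.AtPrime P), x * z = 0 := by
  rw [AssociatedPrimes.mem_iff, isAssociatedPrime_iff] at hP
  obtain ⟨-, w, hw⟩ := hP
  have hmem : ∀ a, a ∈ P ↔ a * w = 0 := fun a => by
    conv_lhs => rw [hw]
    rw [Submodule.mem_colon_singleton, Submodule.mem_bot, smul_eq_mul]
  refine ⟨algebraMap A _ w, fun h => ?_, fun x hx => ?_⟩
  · rw [IsLocalization.map_eq_zero_iff P.primeCompl] at h
    obtain ⟨⟨s, hs⟩, hsw⟩ := h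
    exact hs ((hmem s).2 hsw)
  · obtain ⟨p, s, rfl⟩ := IsLocalization.exists_mk'_eq P.primeCompl x
    rw [IsLocalization.AtPrime.mk'_mem_maximal_iff (Localization.AtPrime P) P] at hx
    rw [mul_comm, IsLocalization.mul_mk'_eq_mk'_of_mul, mul_comm, (hmem p).1 hx, IsLocalization.mk'_zero]

end Groth.Agent.CAlgMisc.DepthZero
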