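import Groth.Agent.CAlgMisc.McCoy
import Groth.Agent.Depth.Basic
import Groth.Agent.Depth.Local

/-!
# Hilbert–Burch: signed maximal minors of a `(t+1) × t` matrix
-/

set_option autoImplicit false
universe u

namespace Groth.Agent.CAlgMisc.HB

open Matrix RingTheory.Sequence
open scoped Pointwise

variable {R : Type u} [CommRing R] {t : ℕ}

/-- signed maximal minor -/
def smin (Ψ : Matrix (Fin (t + 1)) (Fin t) R) (i : Fin (t + 1)) : R :=
  (-1 : R) ^ (i : ℕ) * (Ψ.submatrix i.succAbove id).det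

/-- the square matrix `[v | Ψ]` -/
def aug (Ψ : Matrix (Fin (t + 1)) (Fin t) R) (v : Fin (t + 1) → R) :
    Matrix (Fin (t + 1)) (Fin (t + 1)) R :=
  Matrix.of fun r => Fin.cons (v r) (Ψ r)

theorem det_aug (Ψ : Matrix (Fin (t + 1)) (Fin t) R) (v : Fin (t + 1) → R) :
    (aug Ψ v).det = ∑ i, v i * smin Ψ i := by
  rw [Matrix.det_succ_column_zero]
  refine Finset.sum_congr rfl fun i _ => ?_
  have e : (aug Ψ v).submatrix i.succAbove Fin.succ = Ψ.submatrix i.succAbove id := by
    ext a b; simp [aug]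
  rw [e]; simp [aug, smin]; ring

theorem aug_mulVec (Ψ : Matrix (Fin (t + 1)) (Fin t) R) (v x : Fin (t + 1) → R) :
    aug Ψ v *ᵥ x = x 0 • v + Ψ *ᵥ (Fin.tail x) := by
  funext i
  simp [Matrix.mulVec, dotProduct, Fin.sum_univ_succ, aug, Fin.tail, mul_comm]

theorem sum_smin_mul_col (Ψ : Matrix (Fin (t + 1)) (Fin t) R) (j : Fin t) :
    ∑ i, Ψ i j * smin Ψ i = 0 := by
  rw [← det_aug]
  exact Matrix.det_zero_of_column_eq (Fin.succ_ne_zero j).symm fun k => by simp [aug]

theorem sum_mulVec_mul_smin (Ψ : Matrix (Fin (t + 1)) (Fin t) R) (u : Fin t → R) :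
    ∑ i, (Ψ *ᵥ u) i * smin Ψ i = 0 := by
  simp only [Matrix.mulVec, dotProduct, Finset.sum_mul]
  rw [Finset.sum_comm]
  refine Finset.sum_eq_zero fun j _ => ?_
  have := congrArg (fun z => u j * z) (sum_smin_mul_col Ψ j)
  simp only [Finset.mul_sum, mul_zero] at this
  rw [← this]; exact Finset.sum_congr rfl fun i _ => by ring

/-- Cramer: if `Σ v_i c_i = 0`, every `c_i • v` lies in the image. -/
theorem smul_mem_range (Ψ : Matrix (Fin (t + 1)) (Fin t) R) {v : Fin (t + 1) → R}
    (hv : ∑ i, v i * smin Ψ i = 0) (i : Fin (t + 1)) :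
    ∃ u : Fin t → R, Ψ *ᵥ u = smin Ψ i • v := by
  refine ⟨Fin.tail ((aug Ψ (Pi.single i 1)).cramer v), ?_⟩
  have h := Matrix.mulVec_cramer (aug Ψ (Pi.single i 1)) v
  have h0 : (aug Ψ (Pi.single i 1)).cramer v 0 = 0 := by
    rw [Matrix.cramer_apply, show (aug Ψ (Pi.single i 1)).updateCol 0 v = aug Ψ v by
      ext a b; cases b using Fin.cases <;> simp [aug], det_aug, hv]
  have hd : (aug Ψ (Pi.single i 1)).det = smin Ψ i := by simp [det_aug, Pi.single_apply]
  rw [aug_mulVec, h0, zero_smul, zero_add, hd] at h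
  exact h

theorem det_submatrix_mem (M : Matrix (Fin t) (Fin t) R) (f g : Fin t → Fin t) :
    (M.submatrix f g).det ∈ Ideal.span {M.det} := by
  have e : M.submatrix f g = (1 : Matrix (Fin t) (Fin t) R).submatrix f id * M *
      (1 : Matrix (Fin t) (Fin t) R).submatrix id g := by
    ext a b; simp [Matrix.mul_apply, Matrix.one_apply]
  rw [e, Matrix.det_mul, Matrix.det_mul]
  exact Ideal.mul_mem_right _ _ (Ideal.mul_mem_left _ _ (Ideal.mem_span_singleton_self _))

theorem minorIdeal_eq_span (Ψ : Matrix (Fin (t + 1)) (Fin t) R) :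
    CAlgX.minorIdeal Ψ t = Ideal.span (Set.range (smin Ψ)) := by
  refine le_antisymm (Ideal.span_le.2 ?_) (Ideal.span_le.2 ?_)
  · rintro _ ⟨⟨f, g⟩, rfl⟩
    obtain ⟨i, hi⟩ : ∃ i, ∀ k, f k ≠ i := by
      by_contra h
      push Not at h
      have := Fintype.card_le_of_surjective f h
      simp at this
    choose f' hf' using fun k => Fin.exists_succAbove_eq (hi k)
    have e : Ψ.submatrix f g = (Ψ.submatrix i.succAbove id).submatrix f' g := by
      ext a b; simp [hf']
    have hm : (Ψ.submatrix i.succAbove id).det ∈ Ideal.span (Set.range (smin Ψ)) := by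
      have := Ideal.mul_mem_left (Ideal.span (Set.range (smin Ψ))) ((-1 : R) ^ (i : ℕ))
        (Ideal.subset_span ⟨i, rfl⟩)
      rwa [smin, ← mul_assoc, ← mul_pow, neg_one_mul, neg_neg, one_pow, one_mul] at this
    simp only [SetLike.mem_coe]
    rw [e]
    exact (Ideal.span_singleton_le_iff_mem _).2 hm (det_submatrix_mem _ f' g)
  · rintro _ ⟨i, rfl⟩
    exact Ideal.mul_mem_left _ _ (Ideal.subset_span ⟨(i.succAbove, id), rfl⟩)

theorem det_mul_eq_zero {m n : ℕ} (M : Matrix (Fin n) (Fin m) R) (f : Fin m → Fin n)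
    (g : Fin m → Fin m) (u : Fin m → R) (hu : ∀ k, (M *ᵥ u) (f k) = 0) (c : Fin m) :
    (M.submatrix f g).det * u c = 0 := by
  by_cases hg : Function.Injective g
  · obtain ⟨q, rfl⟩ := (Finite.injective_iff_bijective.1 hg).2 c
    have h1 : (M.submatrix f g) *ᵥ (u ∘ g) = 0 := by
      funext i
      rw [Pi.zero_apply, ← hu i]
      exact (Equiv.ofBijective g (Finite.injective_iff_bijective.1 hg)).sum_comp
        (fun j => M (f i) j * u j)
    have h3 := congrArg ((M.submatrix f g).adjugate.mulVec) h1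
    rw [Matrix.mulVec_mulVec, Matrix.adjugate_mul, Matrix.mulVec_zero, Matrix.smul_mulVec,
      Matrix.one_mulVec] at h3
    simpa using congrFun h3 q
  · obtain ⟨i, j, hij, hne⟩ : ∃ i j, g i = g j ∧ i ≠ j := by simpa [Function.Injective] using hg
    rw [Matrix.det_zero_of_column_eq hne (fun k => by simp [hij]), zero_mul]

theorem eq_zero_of_forall_sq {m n : ℕ} (M : Matrix (Fin n) (Fin m) R)
    (hann : (CAlgX.minorIdeal M m).annihilator = ⊥) {c : R}
    (h : ∀ (f : Fin m → Fin n) (g : Fin m → Fin m), (M.submatrix f g).det ^ 2 * c = 0) : c = 0 := by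
  have hone : ∀ z : R, (∀ x ∈ CAlgX.minorIdeal M m, x * z = 0) → z = 0 := fun z hz => by
    have : z ∈ (CAlgX.minorIdeal M m).annihilator :=
      Submodule.mem_annihilator.2 fun x hx => by rw [smul_eq_mul, mul_comm, hz x hx]
    rwa [hann, Submodule.mem_bot] at this
  let J : Ideal R := Ideal.span (Set.range fun fg : (Fin m → Fin n) × (Fin m → Fin m) =>
    (M.submatrix fg.1 fg.2).det ^ 2)
  have hJ : ∀ x ∈ J, x * c = 0 := by
    intro x hx
    induction hx using Submodule.span_induction with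
    | mem x hx => obtain ⟨⟨f, g⟩, rfl⟩ := hx; exact h f g
    | zero => simp
    | add x y _ _ hx hy => rw [add_mul, hx, hy, add_zero]
    | smul a x _ hx => rw [smul_eq_mul, mul_assoc, hx, mul_zero]
  obtain ⟨N, hN⟩ : ∃ N : ℕ, CAlgX.minorIdeal M m ^ N ≤ J := by
    refine Ideal.exists_pow_le_of_le_radical_of_fg (Ideal.span_le.2 ?_) ?_
    · rintro _ ⟨fg, rfl⟩
      exact ⟨2, Ideal.subset_span ⟨fg, rfl⟩⟩
    · exact Submodule.fg_span (Set.finite_range _)
  have key : ∀ (N : ℕ) (c : R), (∀ x ∈ CAlgX.minorIdeal M m ^ N, x * c = 0) → c = 0 := by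
    intro N
    induction N with
    | zero => exact fun c hc => by simpa using hc 1 (by simp)
    | succ N ih =>
      refine fun c hc => ih c fun x hx => hone _ fun y hy => ?_
      rw [← mul_assoc, mul_comm y x]
      exact hc _ (by rw [pow_succ]; exact Ideal.mul_mem_mul hx hy)
  exact key N c fun x hx => hJ x (hN hx)

theorem range_linearCombination_mul (Ψ : Matrix (Fin (t + 1)) (Fin t) R) (a : R) :
    LinearMap.range (Fintype.linearCombination R fun i => a * smin Ψ i) =
      Ideal.span {a} * CAlgX.minorIdeal Ψ t := by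
  rw [Fintype.range_linearCombination, minorIdeal_eq_span, Ideal.span_mul_span',
    Set.singleton_mul, ← Set.range_comp]
  rfl

theorem exists_pair [IsNoetherianRing R] {J : Ideal R} (h : 2 ≤ LocCoh.idealDepth J R) :
    ∃ x ∈ J, ∃ y ∈ J, (∀ z, x * z = 0 → z = 0) ∧ ∀ z, x ∣ y * z → x ∣ z := by
  by_cases hJ : J • (⊤ : Submodule R R) = ⊤
  · have h1 : (1 : R) ∈ J := by
      have : (1 : R) ∈ J • (⊤ : Submodule R R) := by rw [hJ]; exact Submodule.mem_top
      simpa using this
    exact ⟨1, h1, 1, h1, fun z hz => by simpa using hz, fun z hz => one_dvd z⟩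
  · obtain ⟨rs, hrs, hmem, hlen⟩ := Depth.exists_isWeaklyRegular_of_le_idealDepth hJ (n := 2) h
    obtain ⟨x, y, rfl⟩ : ∃ x y, rs = [x, y] := List.length_eq_two.1 hlen
    rw [isWeaklyRegular_cons_iff, isWeaklyRegular_singleton_iff] at hrs
    refine ⟨x, hmem x (by simp), y, hmem y (by simp), fun z hz => hrs.1 (by simpa using hz),
      fun z hz => ?_⟩
    have hd : ∀ a : R, Submodule.Quotient.mk (p := x • (⊤ : Submodule R R)) a = 0 ↔ x ∣ a := fun a => by
      rw [Submodule.Quotient.mk_eq_zero, Submodule.mem_smul_pointwise_iff_exists]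
      simp [dvd_iff_exists_eq_mul_right, eq_comm]
    rw [← hd] at hz ⊢
    exact hrs.2 (show y • _ = y • (0 : QuotSMulTop x R) by
      rw [smul_zero, ← Submodule.Quotient.mk_smul]; exact hz)

end Groth.Agent.CAlgMisc.HB
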