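import Groth.Prelude.Def_CAlgX
import Mathlib.LinearAlgebra.Matrix.Adjugate
import Mathlib.LinearAlgebra.Matrix.Determinant.Basic
import Mathlib.RingTheory.Ideal.Span

/-!
# McCoy: injectivity of a matrix over a commutative ring
-/

set_option autoImplicit false
universe u

namespace Groth.Agent.CAlgMisc

variable {R : Type u} [CommRing R] {m n : ℕ} (M : Matrix (Fin n) (Fin m) R)

theorem mem_annihilator_minorIdeal {a : R} {r : ℕ} :
    a ∈ (CAlgX.minorIdeal M r).annihilator ↔
      ∀ (f : Fin r → Fin n) (g : Fin r → Fin m), a * (M.submatrix f g).det = 0 := by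
  rw [Submodule.mem_annihilator]
  refine ⟨fun h f g => h _ (Ideal.subset_span ⟨(f, g), rfl⟩), fun h x hx => ?_⟩
  induction hx using Submodule.span_induction with
  | mem x hx => obtain ⟨⟨f, g⟩, rfl⟩ := hx; exact h f g
  | zero => simp
  | add x y _ _ hx hy => rw [smul_add, hx, hy, add_zero]
  | smul c x _ hx => rw [smul_comm, hx, smul_zero]

theorem minorIdeal_eq_bot_of_lt {r : ℕ} (h : m < r) : CAlgX.minorIdeal M r = ⊥ := by
  rw [CAlgX.minorIdeal, Ideal.span_eq_bot]
  rintro _ ⟨⟨f, g⟩, rfl⟩
  obtain ⟨i, j, hij, hne⟩ : ∃ i j, g i = g j ∧ i ≠ j := by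
    by_contra hcon
    push Not at hcon
    have := Fintype.card_le_of_injective g (fun i j hij => hcon i j hij)
    simp at this
    omega
  exact Matrix.det_zero_of_column_eq hne (fun k => by simp [hij])

theorem exists_ker_of_annihilated {a : R} (ha : a ≠ 0)
    (h : ∀ (f : Fin m → Fin n) (g : Fin m → Fin m), a * (M.submatrix f g).det = 0) :
    ∃ v : Fin m → R, v ≠ 0 ∧ M.mulVec v = 0 := by
  classical
  let P : ℕ → Prop := fun r => ∀ (f : Fin r → Fin n) (g : Fin r → Fin m), a * (M.submatrix f g).det = 0
  have hex : ∃ r, P r := ⟨m, h⟩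
  have h0 : ¬ P 0 := fun h0 => ha (by simpa using h0 Fin.elim0 Fin.elim0)
  obtain ⟨r, hr⟩ := Nat.exists_eq_succ_of_ne_zero (fun e : Nat.find hex = 0 => h0 (e ▸ Nat.find_spec hex))
  have hrm : r < m := by have := Nat.find_le (h := hex) h; omega
  have hP : P (r + 1) := by have := Nat.find_spec hex; rwa [hr] at this
  have hnot : ¬ P r := Nat.find_min hex (by omega)
  simp only [P, not_forall] at hnot
  obtain ⟨f, g, hfg⟩ := hnot
  have hg : Function.Injective g := fun i j hij => by
    by_contra hne
    exact hfg (by rw [Matrix.det_zero_of_column_eq hne (fun k => by simp [hij]), mul_zero])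
  obtain ⟨c, hc⟩ : ∃ c, c ∉ Set.range g := by
    by_contra hcon
    push Not at hcon
    have := Fintype.card_le_of_surjective g (fun c => hcon c)
    simp at this
    omega
  let cols : Fin (r + 1) → Fin m := Fin.snoc g c
  have hcols : Function.Injective cols := Fin.snoc_injective_iff.2 ⟨hg, hc⟩
  let w : Fin (r + 1) → R := fun j =>
    (-1) ^ (r + (j : ℕ)) * (M.submatrix f (cols ∘ j.succAbove)).det
  refine ⟨∑ j, Pi.single (cols j) (a * w j), fun hv => ?_, ?_⟩
  · apply hfg
    have h1 := congrFun hv (cols (Fin.last r))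
    rw [Finset.sum_apply, Finset.sum_eq_single (Fin.last r)
      (fun j _ hj => Pi.single_eq_of_ne (fun e => hj (hcols e.symm)) _) (by simp),
      Pi.single_eq_same, Pi.zero_apply] at h1
    have e : cols ∘ Fin.castSucc = g := funext fun i => by simp [cols]
    simpa [w, e, ← two_mul, pow_mul] using h1
  · funext i
    have h2 := hP (Fin.snoc f i) cols
    rw [Matrix.det_succ_row _ (Fin.last r), Finset.mul_sum] at h2
    rw [Pi.zero_apply, ← h2]
    simp only [Matrix.mulVec_sum, Finset.sum_apply, Matrix.mulVec_single]
    refine Finset.sum_congr rfl fun j _ => ?_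
    have e : (M.submatrix (Fin.snoc f i) cols).submatrix (Fin.last r).succAbove j.succAbove =
        M.submatrix f (cols ∘ j.succAbove) := by
      ext p q
      simp
    rw [e]
    simp [w]
    ring

theorem injective_iff : Function.Injective (Matrix.mulVecLin M) ↔
    (CAlgX.minorIdeal M m).annihilator = ⊥ := by
  classical
  constructor
  · intro hinj
    rw [eq_bot_iff]
    intro a ha
    rw [Submodule.mem_bot]
    by_contra ha0
    obtain ⟨v, hv, hMv⟩ := exists_ker_of_annihilated M ha0 ((mem_annihilator_minorIdeal M).1 ha)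
    exact hv (hinj (by simpa using hMv))
  · intro hann
    rw [injective_iff_map_eq_zero]
    intro v hv
    funext c
    suffices v c ∈ (CAlgX.minorIdeal M m).annihilator by rwa [hann, Submodule.mem_bot] at this
    rw [mem_annihilator_minorIdeal]
    intro f g
    by_cases hg : Function.Injective g
    · obtain ⟨q, rfl⟩ := (Finite.injective_iff_bijective.1 hg).2 c
      have h1 : (M.submatrix f g).mulVec (v ∘ g) = 0 := by
        funext i
        have h2 := congrFun hv (f i)
        simp only [Matrix.mulVecLin_apply, Matrix.mulVec, dotProduct, Pi.zero_apply] at h2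
        simp only [Matrix.mulVec, dotProduct, Matrix.submatrix_apply, Function.comp_apply, Pi.zero_apply]
        rw [← h2]
        exact (Equiv.ofBijective g (Finite.injective_iff_bijective.1 hg)).sum_comp
          (fun j => M (f i) j * v j)
      have h3 := congrArg ((M.submatrix f g).adjugate.mulVec) h1
      rw [Matrix.mulVec_mulVec, Matrix.adjugate_mul, Matrix.mulVec_zero, Matrix.smul_mulVec,
        Matrix.one_mulVec] at h3
      have := congrFun h3 q
      simpa [mul_comm] using this
    · obtain ⟨i, j, hij, hne⟩ : ∃ i j, g i = g j ∧ i ≠ j := by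
        simpa [Function.Injective] using hg
      rw [Matrix.det_zero_of_column_eq hne (fun k => by simp [hij]), mul_zero]

theorem matrixRank_eq_of_injective [Nontrivial R] (h : Function.Injective (Matrix.mulVecLin M)) :
    CAlgX.matrixRank M = m := by
  refine IsGreatest.csSup_eq ⟨?_, fun r hr => ?_⟩
  · intro h0
    have := (injective_iff M).1 h
    rw [h0, Submodule.annihilator_bot] at this
    exact top_ne_bot this
  · by_contra hlt
    exact hr (minorIdeal_eq_bot_of_lt M (not_le.1 hlt))

theorem injective_iff_rank [Nontrivial R] : Function.Injective (Matrix.mulVecLin M) ↔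
    CAlgX.matrixRank M = m ∧ (CAlgX.detIdeal M).annihilator = ⊥ := by
  refine ⟨fun h => ⟨matrixRank_eq_of_injective M h, ?_⟩, fun h => ?_⟩
  · rw [CAlgX.detIdeal, matrixRank_eq_of_injective M h]
    exact (injective_iff M).1 h
  · rw [injective_iff]
    have := h.2
    rwa [CAlgX.detIdeal, h.1] at this

end Groth.Agent.CAlgMisc
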